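import Cfsg.Agent.P31.FR
import Cfsg.Agent.H1.Generation
import Cfsg.Agent.P30.Star

/-! S4007: generation of 2-local subgroups. -/

set_option autoImplicit false
set_option linter.unusedSectionVars false

namespace Cfsg.Agent.P31

open Subgroup Cfsg Cfsg.Agent Cfsg.Agent.FT Cfsg.Agent.P6
open scoped commutatorElement

universe u

namespace X6

variable {G : Type u} [Group G] [Finite G] {N T M : Subgroup G}

theorem idx_eq {O : Subgroup G} (hT : IsSyl 2 T N) (le : O ≤ T) {k m : ℕ} (hm : Odd m)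
    (h : O.relIndex N = 2 ^ k * m) : O.relIndex T = 2 ^ k := by
  haveI : Fact (Nat.Prime 2) := ⟨Nat.prime_two⟩
  obtain ⟨n, hn⟩ := hT.pgrp.exists_card_eq
  obtain ⟨j, -, hj⟩ := (Nat.dvd_prime_pow Nat.prime_two).1 (hn ▸ relIndex_dvd_card O T)
  rw [← relIndex_mul_relIndex O T N le hT.le] at h
  refine Nat.dvd_antisymm ?_ ?_
  · exact (hj ▸ ((Nat.coprime_two_left.2 hm).pow_left j)).dvd_of_dvd_mul_right (h ▸ Dvd.intro _ rfl)
  · exact (((Nat.prime_two.coprime_iff_not_dvd).2 hT.ndvd).pow_left k).dvd_of_dvd_mul_right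
      (h ▸ Dvd.intro _ rfl)

theorem le_of_odd (hT : IsSyl 2 T N) (TM : T ≤ M) (h : ∀ x ∈ N, Odd (orderOf x) → x ∈ M) :
    N ≤ M := le_of_forall_exists_isSyl_le fun p hp _ => by
  by_cases e : p = 2
  · exact ⟨T, e ▸ hT, TM⟩
  obtain ⟨P, hP⟩ := exists_isSyl hp N
  refine ⟨P, hP, fun x hx => h x (hP.le hx) ?_⟩
  obtain ⟨k, hk⟩ := hP.pgrp ⟨x, hx⟩
  exact ((hp.odd_of_ne_two e).pow (n := k)).of_dvd_nat
    (orderOf_dvd_of_pow_eq_one (congrArg Subtype.val hk))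

theorem norm_of_comm (OT : O2 N ≤ T) {y : G} (h : ∀ t ∈ T, ⁅y, t⁆ ∈ O2 N) : y ∈ 𝐍(T) :=
  mem_normalizer_fintype fun t ht => by
    simpa [commutatorElement_def] using mul_mem (OT (h t ht)) ht

theorem gen10 (hT : IsSyl 2 T N) (ch : 𝐂(O2 N) ≤ O2 N) (h : (O2 N).relIndex N = 10)
    (hN : N ⊓ 𝐍(T) ≤ M) (h5 : ∀ y, y ∈ N → Ty 5 T (O2 N) y → y ∈ M) : N ≤ M := by
  haveI : Fact (Nat.Prime 5) := ⟨by norm_num⟩
  have OT : O2 N ≤ T := hT.pCoreOf_le Nat.prime_two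
  have i2 : (O2 N).relIndex T = 2 := idx_eq hT OT (k := 1) (m := 5) (by decide) h
  set π := QuotientGroup.mk' ((O2 N).subgroupOf N) with hπ
  have k : ∀ x : N, π x = 1 ↔ (x : G) ∈ O2 N := fun x => QuotientGroup.eq_one_iff x
  have cQ : Nat.card (N ⧸ (O2 N).subgroupOf N) = 10 := h
  have sq : ∀ a ∈ T, ∀ b ∈ T, a ∉ O2 N → b ∉ O2 N → a * b ∈ O2 N := fun a ha b hb na nb =>
    mem_subgroupOf.1 ((mul_mem_iff_of_index_two (H := (O2 N).subgroupOf T) i2 (a := ⟨a, ha⟩)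
      (b := ⟨b, hb⟩)).2 (iff_of_false na nb))
  refine le_of_odd hT (fun t ht => hN ⟨hT.le ht, le_normalizer ht⟩) fun y hy ho => ?_
  by_cases y1 : y = 1
  · exact y1 ▸ one_mem M
  have odd1 : ∀ x ∈ O2 N, Odd (orderOf x) → x = 1 := fun x hx ox => by
    obtain ⟨j, hj⟩ := O_two N ⟨x, hx⟩
    exact eq_one_of (pow_orderOf_eq_one x) (congrArg Subtype.val hj : x ^ 2 ^ j = 1)
      ((Nat.coprime_two_right.2 ox).pow_right _)
  have yO : y ∉ O2 N := fun e => y1 (odd1 y e ho)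
  have y5 : y ^ 5 = 1 := by
    have e1 : y ^ 10 ∈ O2 N := (k (⟨y, hy⟩ ^ 10)).1 (by rw [map_pow, ← cQ, pow_card_eq_one'])
    have e2 := odd1 _ e1 (ho.of_dvd_nat (orderOf_pow_dvd 10))
    exact orderOf_dvd_iff_pow_eq_one.1 ((Nat.coprime_two_right.2 ho).dvd_of_dvd_mul_left
      (orderOf_dvd_of_pow_eq_one (n := 2 * 5) e2))
  by_cases hi : ∀ u ∈ T, u ∉ O2 N → u * y * u⁻¹ * y ∈ O2 N
  · exact h5 y hy ⟨hT.pgrp, OT, i2, orderOf_eq_prime y5 y1, O_nrm N hy, hi,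
      fun e => yO (ch (mem_cent_iff_cent1.2 e))⟩
  push Not at hi
  obtain ⟨u, hu, nu, ni⟩ := hi
  have o5 : orderOf (π ⟨y, hy⟩) = 5 := orderOf_eq_prime
    (by rw [← map_pow, ← map_one π]; exact congrArg π (Subtype.ext y5)) fun e => yO ((k _).1 e)
  have c5 : 𝐨(zpowers (π ⟨y, hy⟩)) = 5 := by rw [Nat.card_zpowers, o5]
  have nz : (zpowers (π ⟨y, hy⟩)).Normal := normal_of_index_eq_two (by
    have := card_mul_index (zpowers (π ⟨y, hy⟩))
    rw [c5, cQ] at this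
    omega)
  have uu : π ⟨u, hT.le hu⟩ * π ⟨u, hT.le hu⟩ = 1 := by
    rw [← map_mul]; exact (k _).2 (sq u hu u hu nu nu)
  have a1 : π ⟨u, hT.le hu⟩ * π ⟨y, hy⟩ * (π ⟨u, hT.le hu⟩)⁻¹ * π ⟨y, hy⟩ ≠ 1 := fun e =>
    ni ((k (⟨u, hT.le hu⟩ * ⟨y, hy⟩ * ⟨u, hT.le hu⟩⁻¹ * ⟨y, hy⟩)).1 (by
      rw [map_mul, map_mul, map_mul, map_inv, e]))
  have c : π ⟨y, hy⟩ ∈ 𝐂[π ⟨u, hT.le hu⟩] := by
    generalize π ⟨u, hT.le hu⟩ = v at uu a1
    generalize π ⟨y, hy⟩ = w at a1 c5 nz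
    have m := nz.conj_mem w (mem_zpowers w) v
    have m2 := mul_mem m (mem_zpowers w)
    have e : zpowers (v * w * v⁻¹ * w) = zpowers w := by
      refine eq_of_le_of_card_ge (zpowers_le.2 m2) ?_
      rw [c5, Nat.card_zpowers]
      rcases (Nat.dvd_prime (p := 5) (by norm_num)).1 (c5 ▸ (zpowers w).orderOf_dvd_natCard m2)
        with e | e
      · exact absurd (orderOf_eq_one_iff.1 e) a1
      · exact e.ge
    refine zpowers_le.2 (mem_cent1_comm.1 (mem_cent1_iff_conj.2 ?_)) (e.ge (mem_zpowers w))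
    obtain ⟨n, hn⟩ := m
    calc _ = v * v * w * (v * v)⁻¹ * (v * w * v⁻¹) := by group
      _ = _ := by rw [uu, ← hn]; group
  refine hN ⟨hy, norm_of_comm OT fun t ht => ?_⟩
  by_cases tO : t ∈ O2 N
  · exact cmr (O_nrm N hy) tO
  refine (k ⁅(⟨y, hy⟩ : N), ⟨t, hT.le ht⟩⁆).1 ?_
  have : π ⟨t, hT.le ht⟩ * π ⟨u, hT.le hu⟩ = 1 := by
    rw [← map_mul]; exact (k _).2 (sq t ht u hu tO nu)
  rw [map_commutatorElement, commutatorElement_eq_one_iff_commute, eq_inv_of_mul_eq_one_left this]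
  exact (mem_cent1_iff_commute.1 c).symm.inv_right

theorem genA (h6 : Or6 G) (hT : IsSyl 2 T N) (ch : 𝐂(O2 N) ≤ O2 N) (h : ShA N)
    (hN : N ⊓ 𝐍(T) ≤ M) (h3 : ∀ E y, O2 N ≤ E → y ∈ N → Ty 3 T E y → y ∈ M) : N ≤ M := by
  haveI : Fact (Nat.Prime 2) := ⟨Nat.prime_two⟩
  haveI : Fact (Nat.Prime 3) := ⟨Nat.prime_three⟩
  obtain ⟨R, -, RN, nR, r3, r2⟩ := h
  have OT : O2 N ≤ T := hT.pCoreOf_le Nat.prime_two
  have TM : T ≤ M := fun t ht => hN ⟨hT.le ht, le_normalizer ht⟩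
  set π := QuotientGroup.mk' ((O2 N).subgroupOf N) with hπ
  have k : ∀ x : N, π x = 1 ↔ (x : G) ∈ O2 N := fun x => QuotientGroup.eq_one_iff x
  have back : ∀ {H : Subgroup G}, O2 N ≤ H → ∀ x : N, π x ∈ im π H → (x : G) ∈ H := by
    rintro H OH x ⟨z, hz, e⟩
    have := OH ((k (z⁻¹ * x)).1 (by rw [map_mul, map_inv, e, inv_mul_cancel]))
    simpa using mul_mem (show (z : G) ∈ H from hz) this
  have T2 : ∀ a ∈ im π T, a * a = 1 := by
    rintro _ ⟨a, ha, rfl⟩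
    rw [← map_mul]
    exact (k _).2 (mem_R_two h6 hT.pgrp (mul_mem ha ha) (r3 _ (r2 _ a.2)))
  have Tc : im π T ≤ 𝐂(im π T) := El.cent T2
  have R3 : ∀ a ∈ im π R, a ^ 3 = 1 := by
    rintro _ ⟨a, ha, rfl⟩
    rw [← map_pow]
    exact (k _).2 (r3 _ ha)
  have nR' : ∀ g, ∀ a ∈ im π R, g * a * g⁻¹ ∈ im π R := by
    rintro g _ ⟨a, ha, rfl⟩
    obtain ⟨g, rfl⟩ := QuotientGroup.mk'_surjective _ g
    exact ⟨g * a * g⁻¹, cj (H := R) (nR g.2) ha, by rw [map_mul, map_mul, map_inv]⟩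
  have key : im π R ≤ im π M := by
    refine H1.le_of_forall_cocyclic (isMulComm_iff_le_cent.2 Tc)
      (fun g _ => mem_normalizer_fintype (nR' g))
      (coprime_card_of_isPGroup Nat.prime_two Nat.prime_three (by norm_num) (im_two π hT.pgrp)
        fun a => ⟨1, Subtype.ext (by simpa using R3 a a.2)⟩) ?_
    rintro B BT ⟨a, ha, eB⟩ w ⟨wR, wC⟩
    have aa := T2 a ha
    have aB : a ∈ 𝐂(B) := cent_anti BT (Tc ha)
    have iR : w⁻¹ * (a * w * a⁻¹) ∈ im π R := mul_mem (inv_mem wR) (nR' a w wR)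
    have iC : w⁻¹ * (a * w * a⁻¹) ∈ 𝐂(B) :=
      mul_mem (inv_mem wC) (mul_mem (mul_mem aB wC) (inv_mem aB))
    have ii : a * (w⁻¹ * (a * w * a⁻¹)) * a⁻¹ = (w⁻¹ * (a * w * a⁻¹))⁻¹ := by
      calc _ = a * w⁻¹ * a⁻¹ * (a * a * w * (a * a)⁻¹) := by group
        _ = _ := by rw [aa]; group
    have ew : a * w * a⁻¹ = w * (w⁻¹ * (a * w * a⁻¹)) := by group
    generalize w⁻¹ * (a * w * a⁻¹) = i at iR iC ii ew
    have i3 := R3 i iR
    have cM : w * i⁻¹ ∈ im π M := by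
      obtain ⟨c, ec⟩ := QuotientGroup.mk'_surjective _ (w * i⁻¹)
      refine ⟨c, hN ⟨c.2, norm_of_comm OT fun t ht => (k ⁅c, ⟨t, hT.le ht⟩⁆).1 ?_⟩, ec⟩
      rw [map_commutatorElement, commutatorElement_eq_one_iff_commute, show π c = _ from ec]
      have : im π T ≤ 𝐂[w * i⁻¹] := by
        rw [← eB]
        refine sup_le (mem_cent_iff_cent1.1 (mul_mem wC (inv_mem iC)))
          (zpowers_le.2 (mem_cent1_iff_conj.2 ?_))
        calc _ = a * w * a⁻¹ * (a * i * a⁻¹)⁻¹ := by group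
          _ = w * i⁻¹ * i ^ 3 := by rw [ew, ii, pow_succ', pow_two]; group
          _ = _ := by rw [i3, mul_one]
      exact mem_cent1_iff_commute.1 (this ⟨_, ht, rfl⟩)
    suffices iM : i ∈ im π M by simpa using mul_mem cM iM
    by_cases i1 : i = 1
    · exact i1 ▸ one_mem _
    have nB : a ∉ B := fun e => i1 (by
      rw [mem_cent.1 iC a e, mul_inv_cancel_right] at ii
      exact eq_one_of i3 ((pow_two i).trans (mul_eq_one_iff_eq_inv.2 ii)) (by norm_num))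
    have dich : ∀ b ∈ im π T, b ∉ B → b * a ∈ B := fun b hb nb => by
      rw [← eB] at hb
      exact (P30.R6.mem_sup_zp (cent_le_norm B aB) (aa ▸ one_mem B) hb).resolve_left nb
    obtain ⟨y0, y0R, rfl⟩ := iR
    obtain ⟨a, aT, rfl⟩ := ha
    have e4 : π (y0 ^ 4) = π y0 := by rw [map_pow, pow_succ, i3, one_mul]
    let E := (B.comap π).map N.subtype
    have mE : ∀ x : N, (x : G) ∈ E ↔ π x ∈ B := fun x =>
      ⟨fun ⟨z, hz, e⟩ => (Subtype.ext e : z = x) ▸ hz, fun h => ⟨x, h, rfl⟩⟩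
    have OE : O2 N ≤ E := fun x hx => (mE ⟨x, O_le N hx⟩).2 (by rw [(k _).2 hx]; exact one_mem B)
    have ET : E ≤ T := by
      rintro _ ⟨x, hx, rfl⟩
      exact back OT x (BT hx)
    refine ⟨y0 ^ 4, h3 E _ OE (y0 ^ 4).2 ⟨hT.pgrp, ET, ?_, orderOf_eq_prime ?_ fun e => i1 ?_,
      mem_normalizer_fintype ?_, fun u hu nu => OE ?_, fun e => i1 ?_⟩, e4⟩
    · refine relIndex_eq_two_iff.2 ⟨a, aT, fun b hb => ?_⟩
      by_cases bE : b ∈ E
      · refine Or.inr ⟨bE, fun e => nB ?_⟩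
        exact (mE a).1 (by simpa using mul_mem (inv_mem bE) e)
      · refine Or.inl ⟨(mE (⟨b, hT.le hb⟩ * a)).2 ?_, bE⟩
        rw [map_mul]
        exact dich _ ⟨_, hb, rfl⟩ fun e => bE ((mE _).2 e)
    · have := h6.pow4 (O_two N) (r3 _ y0R)
      change ((y0 : G) ^ 4) ^ 3 = 1
      rwa [← pow_mul, mul_comm, pow_mul]
    · rw [← e4, ← map_one π]; exact congrArg π (Subtype.ext e)
    · rintro _ ⟨x, hx, rfl⟩
      refine (mE (y0 ^ 4 * x * (y0 ^ 4)⁻¹)).2 ?_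
      rw [map_mul, map_mul, map_inv, e4, ← mem_cent.1 iC _ hx, mul_inv_cancel_right]
      exact hx
    · refine (k (⟨u, hT.le hu⟩ * y0 ^ 4 * ⟨u, hT.le hu⟩⁻¹ * y0 ^ 4)).1 ?_
      have m := dich _ ⟨⟨u, hT.le hu⟩, hu, rfl⟩ fun e => nu ((mE _).2 e)
      rw [map_mul, map_mul, map_mul, map_inv, e4]
      have e := mem_cent.1 (inv_mem iC) _ m
      calc _ = (π ⟨u, hT.le hu⟩ * π a) * (π a * π a)⁻¹ * (π a * π y0 * (π a)⁻¹) * (π a * π a) *
            (π ⟨u, hT.le hu⟩ * π a)⁻¹ * π y0 := by group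
        _ = _ := by rw [aa, ii, inv_one, mul_one, mul_one, e]; group
    · rw [← e4]
      exact (k _).2 (ch (mem_cent_iff_cent1.2 (OE.trans e)))
  exact le_of_odd hT TM fun x hx ho => back (OT.trans TM) ⟨x, hx⟩
    (key ⟨⟨x, hx⟩, (odd_mem_R ho (r2 x hx) : x ∈ R), rfl⟩)

end X6

open X6

theorem genStmt : GenStmt.{u} := fun G _ _ cx D T M h0 h2 hT hN h3 h5 hA => by
  have OT : O2 𝐍(D) ≤ T := hT.pCoreOf_le Nat.prime_two
  rcases cx.sh D h0 h2 with h | (h | h) | h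
  · exact genA cx.or6 hT (cx.ch2 D h0 h2) h hN h3
  · have e := relIndex_eq_one.1 (idx_eq hT OT (k := 0) (m := 5) (by decide) h)
    exact (le_inf le_rfl (le_antisymm e OT ▸ O_nrm 𝐍(D))).trans hN
  · exact gen10 hT (cx.ch2 D h0 h2) h.1 hN fun y hy t => h5 y hy t h.2
  · refine hA ⟨hT.pgrp, OT, idx_eq hT OT (k := 2) (m := 15) (by decide) ?_, hT.le, O_nrm _,
      h.1, h.2⟩
    obtain ⟨f, sj, k⟩ := h.1
    have : (O2 𝐍(D)).subgroupOf 𝐍(D) = f.ker := ext fun x => (k x).symm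
    rw [relIndex, this, index_ker, MonoidHom.range_eq_top.2 sj, card_top, a5_card]
    norm_num

end Cfsg.Agent.P31
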