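/-
P31: case A from `IIStmt` and `A3Stmt`.
-/
import Cfsg.Agent.P31.CaseA9
import Cfsg.Agent.P31.TwoA
import Cfsg.Agent.P31.Gen

set_option autoImplicit false

namespace Cfsg.Agent.P31

universe u

theorem twoAStmt (a3 : A3Stmt.{u}) : TwoAStmt.{u} :=
  fun _ _ _ cx hs nc _ _ _ _ _ hT a cQ b cD ne => twoA genStmt a3 cx hs nc hT a cQ b cD ne

theorem caseA7 (ii : IIStmt.{u}) (a3 : A3Stmt.{u}) : CaseAStmt.{u} :=
  caseA_of ii a3 (twoAStmt a3)

end Cfsg.Agent.P31
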