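/-
P31: a four-group with automizer `S₃` whose centralizer has rank 2.
-/
import Cfsg.Agent.P31.Defs
import Cfsg.Agent.P29.B
import Cfsg.Agent.P30.Bas

set_option autoImplicit false
set_option linter.unusedSectionVars false

namespace Cfsg.Agent.P31

open Subgroup Cfsg Cfsg.Agent Cfsg.Agent.FT Cfsg.Agent.P6

universe u

namespace F3

variable {G : Type u} [Group G] [Finite G] {t z a : G}

theorem conj_mem (it : Inv t) (e1 : a * t * a⁻¹ = t) (e2 : a * z * a⁻¹ = t * z) {g : G}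
    (hg : g ∈ 𝐂[t] ⊓ 𝐂[z]) : a * g * a⁻¹ ∈ 𝐂[t] ⊓ 𝐂[z] := by
  have a1 := conj_mem_conj hg.1 a
  have a2 := conj_mem_conj hg.2 a
  rw [← cent1_conj, e1] at a1
  rw [← cent1_conj, e2] at a2
  refine ⟨a1, mem_cent1_comm.1 ?_⟩
  have := mul_mem (mem_cent1_comm.1 a1) (mem_cent1_comm.1 a2)
  rwa [← mul_assoc, it.sq, one_mul] at this

theorem sq_mem (it : Inv t) (e1 : a * t * a⁻¹ = t) (e2 : a * z * a⁻¹ = t * z) :
    a * a ∈ 𝐂[t] ⊓ 𝐂[z] := by
  refine ⟨mul_mem (mem_cent1_iff_conj.2 e1) (mem_cent1_iff_conj.2 e1), mem_cent1_iff_conj.2 ?_⟩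
  calc _ = a * (a * z * a⁻¹) * a⁻¹ := by group
    _ = a * (t * z) * a⁻¹ := by rw [e2]
    _ = a * t * a⁻¹ * (a * z * a⁻¹) := by group
    _ = _ := by rw [e1, e2, ← mul_assoc, it.sq, one_mul]

theorem shift (e1 : a * t * a⁻¹ = t) (e2 : a * z * a⁻¹ = t * z) {c : G} (hc : c ∈ 𝐂[t] ⊓ 𝐂[z]) :
    a * c * t * (a * c)⁻¹ = t ∧ a * c * z * (a * c)⁻¹ = t * z :=
  ⟨mem_cent1_iff_conj.1 (mul_mem (mem_cent1_iff_conj.2 e1) hc.1), by
    rw [← e2]; nth_rw 2 [← mem_cent1_iff_conj.1 hc.2]; group⟩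

theorem main (h : Or6 G) (it : Inv t) (iz : Inv z) (tz : t * z = z * t)
    (e1 : a * t * a⁻¹ = t) (e2 : a * z * a⁻¹ = t * z) (om : P29.Om (𝐂[t] ⊓ 𝐂[z]) t z) {g : G}
    (hg : g ∈ 𝐂[t] ⊓ 𝐂[z]) (e : g * g = z ∨ g * g = t * z) : False := by
  obtain ⟨k, _, ⟨m, rfl⟩, a2, -⟩ := P30.exists_parts a
  have f := shift e1 e2 (pow_mem (sq_mem it e1 e2) m)
  rw [← pow_two, ← pow_mul, ← pow_succ'] at f
  generalize a ^ (2 * m + 1) = s at a2 f
  obtain ⟨f1, f2⟩ := f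
  have g2 : P21.Two g := P30.two_of_sq (P21.Two.of_sq (by
    rcases e with e | e <;> rw [e]
    exacts [iz.sq, by rw [mul_assoc, ← mul_assoc z, ← tz, mul_assoc, iz.sq, mul_one, it.sq]]))
  obtain ⟨S, hS, -, n, -⟩ := P30.exists_syl (K := 𝐂[t] ⊓ 𝐂[z]) (mem_norm_of_conj_le fun _ hx => by
    obtain ⟨x, hx', rfl⟩ := mem_conj'.1 hx; exact conj_mem it f1 f2 hx') ⟨k, a2⟩
    (IsPGroup.of_bot (p := 2)) bot_le (by rw [norm_bot]; trivial)
  obtain ⟨w, hw, l⟩ := hS.exists_conj_le Nat.prime_two g2.zp (zpowers_le.2 hg)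
  have cS := l (conj_mem_conj (mem_zpowers g) w)
  have cc : w * g * w⁻¹ * (w * g * w⁻¹) = g * g := by
    rw [conj_mul]
    rcases e with e | e <;> rw [e]
    · exact mem_cent1_iff_conj.1 hw.2
    · rw [← conj_mul, mem_cent1_iff_conj.1 hw.1, mem_cent1_iff_conj.1 hw.2]
  rw [← cc] at e
  generalize w * g * w⁻¹ = c at cS e
  have cC := hS.le cS
  have p := isPGroup_sup (P21.Two.zp ⟨k, a2⟩) hS.pgrp (zpowers_le.2 n)
  have key : ∀ x ∈ zpowers s ⊔ S, x * x ∈ 𝐂[t] ⊓ 𝐂[z] →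
      x * x * (x * x) = 1 ∧ ∀ y ∈ 𝐂[t] ⊓ 𝐂[z], x * x * y = y * (x * x) := fun x hx m => by
    have x4 : x * x * (x * x) = 1 := by rw [← pow_two, ← pow_two, ← pow_mul]; exact h.pow4 p hx
    refine ⟨x4, fun y hy => ?_⟩
    rcases om _ m x4 with e | e | e | e <;> rw [e]
    exacts [by simp, mem_cent1.1 hy.1, mem_cent1.1 hy.2,
      by rw [mul_assoc, mem_cent1.1 hy.2, ← mul_assoc, mem_cent1.1 hy.1, mul_assoc]]
  have sm : s ∈ zpowers s ⊔ S := mem_sup_left (mem_zpowers s)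
  obtain ⟨u1, u2⟩ := key s sm (sq_mem it f1 f2)
  obtain ⟨v1, v2⟩ := key _ (mul_mem sm (mem_sup_right cS))
    (sq_mem it (shift f1 f2 cC).1 (shift f1 f2 cC).2)
  obtain ⟨c1, -⟩ := key c (mem_sup_right cS) (mul_mem cC cC)
  have b : s * c * s⁻¹ = s * c * (s * c) * (c⁻¹ * (s * s)⁻¹) := by group
  have uC := inv_mem (sq_mem it f1 f2)
  have d : s * (c * c) * s⁻¹ = c * c := by
    rw [← conj_mul, b]
    generalize s * c * (s * c) = v at v1 v2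
    generalize s * s = u at u1 u2 uC
    calc _ = v * (c⁻¹ * u⁻¹ * v) * c⁻¹ * u⁻¹ := by group
      _ = (u * (c * u) * c)⁻¹ := by
        rw [← v2 _ (mul_mem (inv_mem cC) uC), ← mul_assoc v v, v1]; group
      _ = _ := by
        rw [← u2 c cC, ← mul_assoc, u1, one_mul]; exact inv_eq_of_mul_eq_one_right c1
  rcases e with e | e <;> rw [e] at d
  · exact it.ne (by simpa [f2] using d)
  · rw [← conj_mul, f1, f2] at d; exact it.ne (by simpa using d)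

end F3

theorem f3Stmt : F3Stmt.{u} := fun G _ _ h t z a b it iz ne tz a1 a2 b1 b2 n8 g hg g4 => by
  have om := P29.om_of_not_e8 (H := 𝐂[t] ⊓ 𝐂[z]) it iz ne ⟨self_mem_cent1 t, mem_cent1.2 tz.symm⟩
    ⟨mem_cent1.2 tz, self_mem_cent1 z⟩ inf_le_left inf_le_right n8
  rcases om _ (mul_mem hg hg) (by rw [← pow_two, ← pow_two, ← pow_mul]; exact g4) with e | e | e
  · exact om g hg e
  · refine (F3.main h it iz tz a1 a2 om (g := b * g * b⁻¹) ?_ (Or.inr (by rw [conj_mul, e, b2]))).elim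
    rw [inf_comm] at hg ⊢
    exact F3.conj_mem iz b1 (b2.trans tz) hg
  · exact (F3.main h it iz tz a1 a2 om hg e).elim

end Cfsg.Agent.P31
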