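/-
P31: assembly.
-/
import Cfsg.Agent.P31.A3
import Cfsg.Agent.P31.Aut5
import Cfsg.Agent.P31.CaseA7
import Cfsg.Agent.P31.CaseB
import Cfsg.Agent.P31.D10
import Cfsg.Agent.P31.DA
import Cfsg.Agent.P31.F3
import Cfsg.Agent.P31.FR
import Cfsg.Agent.P31.Fin
import Cfsg.Agent.P31.GA
import Cfsg.Agent.P31.GAC
import Cfsg.Agent.P31.Gen
import Cfsg.Agent.P31.PU
import Cfsg.Agent.P31.R2
import Cfsg.Agent.P31.SE
import Cfsg.Agent.P31.SG
import Cfsg.Agent.P31.SH
import Cfsg.Agent.P31.Sm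
import Cfsg.Agent.P31.XS

set_option autoImplicit false

namespace Cfsg.Agent.P31

universe u

theorem simAll : SimStmt.{u} :=
  have ga := gaStmt gacStmt xsStmt
  have da := daStmt genStmt (puStmt ga abStmt fr5Stmt fraStmt)
  simStmt shStmt (caseA7 (iiStmt da) (a3Stmt xsStmt fr5Stmt fraStmt))
    (caseBStmt ga (iiStmt da) (iiiStmt da)) seStmt sgStmt c2Stmt (r2Stmt f3Stmt) smStmt

end Cfsg.Agent.P31
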